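import Cfsg.Agent.INV.Holt.BW0b

/-!
# Holt: the Bender world; members  (block BW0)

The definitions and the first statements are in `BW0a`, the pump-ups of members in `BW0b`.
-/
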