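import Cfsg.Agent.INV.Holt.D1
import Cfsg.Agent.INV.Holt.BF2a
import Cfsg.Agent.INV.PP.Defs
import Cfsg.Agent.INV.Holt.D3b

/-!
# Holt, world `δ`: the Sylow 2-subgroup  (block D3)

The first half is in `D3a`, the second half in `D3b`.
-/
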