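import Cfsg.Agent.INV.Holt.DAa
import Cfsg.Agent.INV.Holt.DAb

/-!
# Holt, world `δ`: general lemmas  (block DA)
-/
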